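import Mathlib
import Cfsg.Agent.Lib.Lie.ZassenhausHalf
import Cfsg.Agent.Lib.Classical.Dickson.Tools
import Cfsg.Agent.Lib.Classical.Dickson.Subgroups
import Cfsg.Agent.S0252

/-!
A group of the order of `PSL(2,p²)` in which every element of order divisible by `p` is a
`p`-element is isomorphic to `PSL(2,p²)`: the Sylow `p`-subgroups are self-centralising TI sets,
and conjugation on them gives a Zassenhaus group of degree `p² + 1`.
-/

set_option autoImplicit false
set_option linter.unusedSectionVars false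
set_option linter.style.haveILetI false
set_option maxHeartbeats 1000000

namespace Cfsg.Agent.Lie.PSLSquare

open MulAction
open scoped Pointwise

universe u

variable {G : Type u} [Group G] [Finite G] {p : ℕ} [hp : Fact p.Prime]

/-- Centralisers of non-trivial elements of a Sylow subgroup. -/
theorem centralizer_eq (hC : ∀ g : G, p ∣ orderOf g → ∀ r : ℕ, r.Prime → r ∣ orderOf g → r = p)
    (P : Sylow p G) (hab : ∀ a ∈ (P : Subgroup G), ∀ b ∈ (P : Subgroup G), a * b = b * a)
    {y : G} (hy : y ∈ (P : Subgroup G)) (hy1 : y ≠ 1) :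
    Subgroup.centralizer ({y} : Set G) = (P : Subgroup G) := by
  have hle : (P : Subgroup G) ≤ Subgroup.centralizer ({y} : Set G) := fun a ha =>
    Subgroup.mem_centralizer_singleton_iff.mpr (hab a ha y hy)
  refine P.is_maximal' ?_ hle
  obtain ⟨e, he⟩ := P.2 ⟨y, hy⟩
  obtain ⟨m, hm⟩ : ∃ m, orderOf y = p ^ (m + 1) := by
    obtain ⟨m, -, hm⟩ := (Nat.dvd_prime_pow hp.out).mp (orderOf_dvd_of_pow_eq_one
      (congrArg Subtype.val he : y ^ p ^ e = 1))
    rcases m with _ | m
    · exact absurd (orderOf_eq_one_iff.mp (hm.trans (pow_zero p))) hy1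
    · exact ⟨m, hm⟩
  obtain ⟨j, hj⟩ : ∃ j, orderOf (y ^ j) = p := ⟨p ^ m, by
    rw [orderOf_pow_of_dvd (pow_ne_zero _ hp.out.ne_zero) (hm ▸ pow_dvd_pow p (Nat.le_succ m)), hm,
      pow_succ, Nat.mul_div_cancel_left _ (pow_pos hp.out.pos m)]⟩
  refine IsPGroup.iff_card.mpr ?_
  by_cases hcc : ∀ r : ℕ, r.Prime → r ∣ Nat.card (Subgroup.centralizer ({y} : Set G)) → r = p
  · exact ⟨_, Nat.eq_prime_pow_of_unique_prime_dvd Nat.card_pos.ne' fun {r} h1 h2 => hcc r h1 h2⟩
  push Not at hcc
  obtain ⟨r, hr, hrd, hrp⟩ := hcc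
  haveI : Fact r.Prime := ⟨hr⟩
  obtain ⟨z, hz⟩ := exists_prime_orderOf_dvd_card' r hrd
  rw [← Subgroup.orderOf_coe] at hz
  have hcomm : Commute (y ^ j) (z : G) :=
    (show Commute y (z : G) from (Subgroup.mem_centralizer_singleton_iff.mp z.2).symm).pow_left j
  have hyj : orderOf (y ^ j) = p := hj
  have ho : orderOf (y ^ j * (z : G)) = p * r := by
    rw [hcomm.orderOf_mul_eq_mul_orderOf_of_coprime (by
      rw [hyj, hz]; exact (Nat.coprime_primes hp.out hr).mpr (Ne.symm hrp)), hyj, hz]
  exact absurd (hC _ (by rw [ho]; exact dvd_mul_right _ _) r hr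
    (by rw [ho]; exact dvd_mul_left _ _)) hrp

theorem psl_of_square {F : Type*} [Field F] [Fintype F] (hF : Fintype.card F = p ^ 2)
    (hcard : Nat.card G = Nat.card (Matrix.ProjectiveSpecialLinearGroup (Fin 2) F))
    (hC : ∀ g : G, p ∣ orderOf g → ∀ r : ℕ, r.Prime → r ∣ orderOf g → r = p) :
    Nonempty (G ≃* Matrix.ProjectiveSpecialLinearGroup (Fin 2) F) := by
  classical
  haveI := Fintype.ofFinite G
  have hcp := Cfsg.Agent.Classical.Dickson.card_psl F
  rw [← hcard, hF] at hcp
  set q := p ^ 2 with hq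
  set d := Nat.gcd 2 (q - 1) with hd
  have hp2 := hp.out.two_le
  have hq4 : 4 ≤ q := by rw [hq]; nlinarith
  have hd2 : d ≤ 2 := Nat.le_of_dvd (by norm_num) (Nat.gcd_dvd_left _ _)
  have hd0 : 0 < d := Nat.gcd_pos_of_pos_left _ (by norm_num)
  have hpnd : ¬ p ∣ q ^ 2 - 1 := fun h => hp.out.one_lt.ne' (Nat.dvd_one.mp (by
    have h2 : p ∣ q ^ 2 := dvd_pow (dvd_pow_self p (by norm_num)) (by norm_num)
    simpa [Nat.sub_sub_self (Nat.one_le_pow 2 q (by omega))] using Nat.dvd_sub h2 h))
  have hpd : ¬ p ∣ d := by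
    intro h
    have h2 : p ∣ q - 1 := h.trans (Nat.gcd_dvd_right _ _)
    have h3 : p ∣ q := dvd_pow_self p (by norm_num)
    have := Nat.dvd_sub h3 h2
    rw [Nat.sub_sub_self (by omega), Nat.dvd_one] at this
    exact hp.out.one_lt.ne' this
  obtain ⟨P⟩ := (inferInstance : Nonempty (Sylow p G))
  have hPcard : Nat.card (P : Subgroup G) = q := by
    rw [P.card_eq_multiplicity]
    have h1 := congrArg (fun n => n.factorization p) hcp
    beta_reduce at h1
    rw [Nat.factorization_mul Nat.card_pos.ne' hd0.ne', Nat.factorization_mul (show q ≠ 0 by omega)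
      (show q ^ 2 - 1 ≠ 0 from fun h => hpnd (by rw [h]; exact dvd_zero p)), Finsupp.add_apply, Finsupp.add_apply,
      Nat.factorization_eq_zero_of_not_dvd hpd, Nat.factorization_eq_zero_of_not_dvd hpnd,
      add_zero, add_zero] at h1
    rw [h1, hq, hp.out.factorization_pow, Finsupp.single_eq_same]
  have habQ : ∀ Q : Sylow p G, ∀ a ∈ (Q : Subgroup G), ∀ b ∈ (Q : Subgroup G), a * b = b * a := by
    intro Q a ha b hb
    have := IsPGroup.commutative_of_card_eq_prime_sq (p := p) (G := (Q : Subgroup G))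
      (by rw [Q.card_eq_multiplicity, ← P.card_eq_multiplicity, hPcard]) ⟨a, ha⟩ ⟨b, hb⟩
    exact congrArg Subtype.val this
  have hcen : ∀ Q : Sylow p G, ∀ {y : G}, y ∈ (Q : Subgroup G) → y ≠ 1 →
      Subgroup.centralizer ({y} : Set G) = (Q : Subgroup G) := fun Q y h1 h2 =>
    centralizer_eq hC Q (habQ Q) h1 h2
  have hTI : ∀ Q R : Sylow p G, Q ≠ R → ∀ y, y ∈ (Q : Subgroup G) → y ∈ (R : Subgroup G) →
      y = 1 := by
    intro Q R hne y h1 h2
    by_contra h
    exact hne (Sylow.ext ((hcen Q h1 h).symm.trans (hcen R h2 h)))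
  have hmemN : ∀ (Q : Sylow p G) (g : G), g • Q = Q ↔
      g ∈ Subgroup.normalizer ((Q : Subgroup G) : Set G) := fun Q g => Sylow.smul_eq_iff_mem_normalizer
  have hfree : ∀ Q : Sylow p G, Q ≠ P → ∀ u : G, u ∈ (P : Subgroup G) → u • Q = Q → u = 1 := by
    intro Q hne u hu hfix
    refine hTI Q P hne u ?_ hu
    have h1 : Subgroup.zpowers u ⊓ Subgroup.normalizer ((Q : Subgroup G) : Set G) =
        Subgroup.zpowers u ⊓ (Q : Subgroup G) :=
      (P.2.to_le (Subgroup.zpowers_le.mpr hu)).inf_normalizer_sylow Q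
    have h2 : u ∈ Subgroup.zpowers u ⊓ Subgroup.normalizer ((Q : Subgroup G) : Set G) :=
      ⟨Subgroup.mem_zpowers u, (hmemN Q u).mp hfix⟩
    rw [h1] at h2
    exact h2.2
  set N := Subgroup.normalizer ((P : Subgroup G) : Set G) with hN
  have hPN : (P : Subgroup G) ≤ N := Subgroup.le_normalizer
  -- the action of `P` on the other Sylow subgroups
  let X := {Q : Sylow p G // Q ≠ P}
  letI actX : MulAction (P : Subgroup G) X :=
    { smul := fun u Q => ⟨(u : G) • (Q : Sylow p G), fun h => Q.2 (by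
        have h2 : (u : G) • (Q : Sylow p G) = (u : G) • P := by
          rw [h, (hmemN P u).mpr (hPN u.2)]
        exact smul_left_cancel (u : G) h2)⟩
      one_smul := fun Q => Subtype.ext (one_smul G (Q : Sylow p G))
      mul_smul := fun u v Q => Subtype.ext (mul_smul (u : G) (v : G) (Q : Sylow p G)) }
  have hstabX : ∀ Q : X, MulAction.stabilizer (P : Subgroup G) Q = ⊥ := fun Q =>
    (Subgroup.eq_bot_iff_forall _).mpr fun u hu =>
      Subtype.ext (hfree Q Q.2 u u.2 (congrArg Subtype.val hu))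
  obtain ⟨j, hj⟩ : ∃ j, Nat.card (Sylow p G) = 1 + q * j := by
    refine ⟨Nat.card (Quotient (MulAction.orbitRel (P : Subgroup G) X)), ?_⟩
    have h1 := Nat.card_congr (MulAction.selfEquivOrbitsQuotientProd (G := (P : Subgroup G))
      (X := X) hstabX)
    rw [Nat.card_prod, hPcard] at h1
    have h2 : Nat.card (Sylow p G) = Nat.card X + 1 := by
      rw [← Nat.card_congr (Equiv.optionSubtypeNe P), Finite.card_option]
    rw [h2, h1]; ring
  -- the action of `N` on the non-trivial elements of `P`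
  obtain ⟨k, hk⟩ : ∃ k, Nat.card N = q * k := by
    rw [← hPcard]; exact Subgroup.card_dvd_of_le hPN
  have hk0 : 0 < k := Nat.pos_of_ne_zero fun h => Nat.card_pos.ne' (by rw [hk, h, mul_zero])
  let Y := {y : G // y ∈ (P : Subgroup G) ∧ y ≠ 1}
  letI actY : MulAction N Y :=
    { smul := fun g y => ⟨(g : G) * y * (g : G)⁻¹,
        (Subgroup.mem_normalizer_iff.mp g.2 y).mp y.2.1, fun h => y.2.2 (conj_eq_one_iff.mp h)⟩
      one_smul := fun y => Subtype.ext (show (1 : G) * y * (1 : G)⁻¹ = y by group)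
      mul_smul := fun g g' y => Subtype.ext (show ((g : G) * g') * y * ((g : G) * g')⁻¹ =
        (g : G) * ((g' : G) * y * (g' : G)⁻¹) * (g : G)⁻¹ by group) }
  have hkdvd : k ∣ q - 1 := by
    have hY : Nat.card Y = q - 1 := by
      rw [← hPcard]
      have e : Y ≃ {y : (P : Subgroup G) // y ≠ 1} :=
        { toFun := fun y => ⟨⟨y, y.2.1⟩, fun h => y.2.2 (congrArg Subtype.val h)⟩
          invFun := fun y => ⟨y.1, y.1.2, fun h => y.2 (Subtype.ext h)⟩
          left_inv := fun y => rfl
          right_inv := fun y => rfl }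
      rw [Nat.card_congr e, ← Nat.card_congr (Equiv.optionSubtypeNe (1 : (P : Subgroup G))),
        Finite.card_option, Nat.add_sub_cancel]
    have hst : ∀ y : Y, Nat.card (MulAction.stabilizer N y) = q := by
      intro y
      rw [← hPcard, show MulAction.stabilizer N y = (P : Subgroup G).subgroupOf N from
        Subgroup.ext fun g => ?_]
      · exact Nat.card_congr (Subgroup.subgroupOfEquivOfLe hPN).toEquiv
      rw [Subgroup.mem_subgroupOf, ← hcen P y.2.1 y.2.2, Subgroup.mem_centralizer_singleton_iff,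
        MulAction.mem_stabilizer_iff, Subtype.ext_iff]
      exact mul_inv_eq_iff_eq_mul
    rw [← hY, Nat.card_congr (MulAction.selfEquivSigmaOrbits N Y), Nat.card_sigma]
    refine Finset.dvd_sum fun ω _ => ?_
    have h1 := Subgroup.card_mul_index (MulAction.stabilizer N ω.out)
    rw [MulAction.index_stabilizer, hst, hk] at h1
    rw [Nat.card_coe_set_eq]
    exact dvd_of_eq (Nat.eq_of_mul_eq_mul_left (by omega : 0 < q) h1).symm
  -- arithmetic
  have hnN : Nat.card (Sylow p G) * Nat.card N = Nat.card G := by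
    rw [P.card_eq_index_normalizer]
    exact Subgroup.index_mul_card _
  have hkey : k * d = q - 1 ∧ j = 1 := by
    rw [← hnN, hj, hk] at hcp
    have h1 : (1 + q * j) * k * d = q ^ 2 - 1 :=
      Nat.eq_of_mul_eq_mul_left (by omega : 0 < q) (by rw [← hcp]; ring)
    have hkq : k ≤ q - 1 := Nat.le_of_dvd (by omega) hkdvd
    have h2 : k * d + 1 + q * (j * (k * d)) = q * q := by
      have : (1 + q * j) * k * d + 1 = q ^ 2 := by
        rw [h1]; exact Nat.sub_add_cancel (Nat.one_le_pow _ _ (by omega))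
      rw [sq] at this; rw [← this]; ring
    obtain ⟨i, hi⟩ : q ∣ k * d + 1 :=
      (Nat.dvd_add_left (dvd_mul_right q (j * (k * d)))).mp (h2 ▸ dvd_mul_right q q)
    have h3 : k * d ≤ (q - 1) * 2 := Nat.mul_le_mul hkq hd2
    have hi1 : i = 1 := by
      rcases i with _ | _ | i
      · simp at hi
      · rfl
      · exfalso; have : q * 2 ≤ q * (i + 1 + 1) := Nat.mul_le_mul_left q (by omega)
        omega
    rw [hi1, mul_one] at hi
    refine ⟨by omega, ?_⟩
    rw [hi, show k * d = q - 1 by omega] at h2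
    have h4 : q * (j * (q - 1)) = q * (q - 1) := by
      rw [Nat.mul_sub_left_distrib q q 1, mul_one]; omega
    have h5 := Nat.eq_of_mul_eq_mul_left (by omega : 0 < q) h4
    exact Nat.eq_of_mul_eq_mul_right (by omega : 0 < q - 1) (h5.trans (one_mul _).symm)
  obtain ⟨hkd, rfl⟩ := hkey
  have hn : Nat.card (Sylow p G) = q + 1 := by rw [hj]; ring
  -- transitivity
  have htrans : ∀ Q R : Sylow p G, Q ≠ P → R ≠ P → ∃ u ∈ (P : Subgroup G), u • Q = R := by
    intro Q R hQ hR
    have hXc : Nat.card X = q := by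
      have : Nat.card (Sylow p G) = Nat.card X + 1 := by
        rw [← Nat.card_congr (Equiv.optionSubtypeNe P), Finite.card_option]
      omega
    have hinj : Function.Injective (fun u : (P : Subgroup G) => u • (⟨Q, hQ⟩ : X)) := by
      intro u v huv
      have h1 : v⁻¹ * u ∈ MulAction.stabilizer (P : Subgroup G) (⟨Q, hQ⟩ : X) := by
        rw [MulAction.mem_stabilizer_iff, mul_smul, inv_smul_eq_iff]
        exact huv
      rw [hstabX, Subgroup.mem_bot, inv_mul_eq_one] at h1
      exact h1.symm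
    obtain ⟨u, hu⟩ := ((Nat.bijective_iff_injective_and_card _).mpr
      ⟨hinj, by rw [hXc, hPcard]⟩).2 ⟨R, hR⟩
    exact ⟨u, u.2, congrArg Subtype.val hu⟩
  have h2trans : MulAction.IsMultiplyPretransitive G (Sylow p G) 2 := by
    rw [MulAction.is_two_pretransitive_iff]
    intro a b c e hab' hce
    obtain ⟨g₁, hg₁⟩ := MulAction.exists_smul_eq G a P
    obtain ⟨g₂, hg₂⟩ := MulAction.exists_smul_eq G c P
    have h1 : g₁ • b ≠ P := fun h => hab' (smul_left_cancel g₁ (hg₁.trans h.symm))
    have h2 : g₂ • e ≠ P := fun h => hce (smul_left_cancel g₂ (hg₂.trans h.symm))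
    obtain ⟨u, hu, hub⟩ := htrans _ _ h1 h2
    refine ⟨g₂⁻¹ * u * g₁, ?_, ?_⟩
    · rw [mul_smul, mul_smul, hg₁, (hmemN P u).mpr (hPN hu), inv_smul_eq_iff, hg₂]
    · rw [mul_smul, mul_smul, hub, inv_smul_smul]
  have hthreeP : ∀ (g : G) (b c : Sylow p G), b ≠ P → c ≠ P → b ≠ c → g • P = P → g • b = b →
      g • c = c → g = 1 := by
    intro g b c hb hc hbc hgP hgb hgc
    obtain ⟨u, hu, rfl⟩ := htrans b c hb hc
    have hu1 : u ≠ 1 := fun h => hbc (by rw [h, one_smul])
    have hcP : g * u * g⁻¹ ∈ (P : Subgroup G) :=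
      (Subgroup.mem_normalizer_iff.mp ((hmemN P g).mp hgP) u).mp hu
    have hfixb : (g * u * g⁻¹) • b = u • b := by
      rw [mul_smul, mul_smul, inv_smul_eq_iff.mpr hgb.symm, hgc]
    have h1 : u⁻¹ * (g * u * g⁻¹) = 1 := hfree b hb _
      (mul_mem (inv_mem hu) hcP) (by rw [mul_smul, hfixb, inv_smul_smul])
    have hgc' : g ∈ Subgroup.centralizer ({u} : Set G) := by
      rw [Subgroup.mem_centralizer_singleton_iff, ← mul_inv_eq_iff_eq_mul]
      exact (inv_mul_eq_one.mp h1).symm
    rw [hcen P hu hu1] at hgc'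
    exact hfree b hb g hgc' hgb
  have hthree : ∀ (g : G) (a b c : Sylow p G), a ≠ b → b ≠ c → a ≠ c → g • a = a → g • b = b →
      g • c = c → g = 1 := by
    intro g a b c hab' hbc hac hga hgb hgc
    obtain ⟨h, hh⟩ := MulAction.exists_smul_eq G a P
    have key : ∀ x : Sylow p G, g • x = x → (h * g * h⁻¹) • (h • x) = h • x := fun x hx => by
      rw [mul_smul, mul_smul, inv_smul_smul, hx]
    have := hthreeP (h * g * h⁻¹) (h • b) (h • c) (fun e => hab' (smul_left_cancel h (hh.trans e.symm)))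
      (fun e => hac (smul_left_cancel h (hh.trans e.symm))) (fun e => hbc (smul_left_cancel h e))
      (hh ▸ key a hga) (key b hgb) (key c hgc)
    exact conj_eq_one_iff.mp this
  haveI : Fintype (Sylow p G) := Fintype.ofFinite _
  obtain ⟨Q₀, hQ₀, R₀, hR₀, hQR⟩ : ∃ Q₀ : Sylow p G, Q₀ ≠ P ∧ ∃ R₀ : Sylow p G, R₀ ≠ P ∧ Q₀ ≠ R₀ := by
    have : 2 < Fintype.card (Sylow p G) := by rw [← Nat.card_eq_fintype_card, hn]; omega
    obtain ⟨a, b, c, h1, h2, h3⟩ := Fintype.two_lt_card_iff.mp this
    by_cases ha : a = P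
    · exact ⟨b, fun h => h1 (ha.trans h.symm), c, fun h => h2 (ha.trans h.symm), h3⟩
    · by_cases hb : b = P
      · exact ⟨a, ha, c, fun h => h3 (hb.trans h.symm), h2⟩
      · exact ⟨a, ha, b, hb, h1⟩
  have hfaith : FaithfulSMul G (Sylow p G) := ⟨fun {g₁ g₂} h => by
    have := hthree (g₂⁻¹ * g₁) P Q₀ R₀ hQ₀.symm hQR hR₀.symm
      (by rw [mul_smul, h, inv_smul_smul]) (by rw [mul_smul, h, inv_smul_smul])
      (by rw [mul_smul, h, inv_smul_smul])
    exact (inv_mul_eq_one.mp this).symm⟩
  haveI := hfaith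
  rcases hp.out.eq_two_or_odd' with hp2' | hpodd
  · -- five points
    have hq' : q = 4 := by rw [hq, hp2']; norm_num
    have hG : Nat.card G = 60 := by
      have hd1 : d = 1 := by rw [hd, hq']; decide
      rw [hd1, hq'] at hcp
      rw [mul_one] at hcp
      rw [hcp]
      norm_num
    let f : G →* Equiv.Perm (Fin 5) :=
      ((Fintype.equivFinOfCardEq (show Fintype.card (Sylow p G) = 5 by
        rw [← Nat.card_eq_fintype_card, hn, hq'])).permCongrHom.toMonoidHom).comp
        (MulAction.toPermHom G (Sylow p G))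
    have hf : Function.Injective f :=
      fun a b h => MulAction.toPerm_injective (((Fintype.equivFinOfCardEq (show
        Fintype.card (Sylow p G) = 5 by rw [← Nat.card_eq_fintype_card, hn, hq'])).permCongrHom).injective h)
    have hrange : Nat.card f.range = 60 := by
      rw [← Nat.card_congr (MonoidHom.ofInjective hf).toEquiv, hG]
    have hidx : f.range.index = 2 := by
      have h := Subgroup.card_mul_index f.range
      rw [hrange, Nat.card_perm, Nat.card_fin] at h
      norm_num [Nat.factorial] at h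
      omega
    obtain ⟨e⟩ := Cfsg.Agent.S0252.result (F := F) (by rw [hF, hq'])
    exact ⟨((MonoidHom.ofInjective hf).trans (MulEquiv.subgroupCongr
      (Equiv.Perm.eq_alternatingGroup_of_index_eq_two hidx))).trans e.symm⟩
  · have hqodd : Odd q := by rw [hq]; exact hpodd.pow
    have hq8 : q % 4 = 1 := by
      obtain ⟨i, rfl⟩ := hpodd
      rw [hq, show (2 * i + 1) ^ 2 = 4 * (i * i + i) + 1 by ring]
      omega
    have hd' : d = 2 := by
      rw [hd]; exact Nat.gcd_eq_left ⟨(q - 1) / 2, by omega⟩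
    rw [hd'] at hkd
    have hD : Nat.card ↥(stabilizer G P ⊓ stabilizer G Q₀) = k := by
      have hNeq : stabilizer G P = N := Subgroup.ext fun g => hmemN P g
      rw [hNeq]
      have h1 := Subgroup.card_mul_index (MulAction.stabilizer N Q₀)
      have horb : MulAction.orbit N Q₀ = {Q : Sylow p G | Q ≠ P} := by
        ext Q
        constructor
        · rintro ⟨g, rfl⟩ h
          exact hQ₀ (smul_left_cancel (g : G) (show (g : G) • Q₀ = (g : G) • P by
            rw [show (g : G) • Q₀ = P from h, (hmemN P g).mpr g.2]))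
        · intro hQ
          obtain ⟨u, hu, hu'⟩ := htrans Q₀ Q hQ₀ hQ
          exact ⟨⟨u, hPN hu⟩, hu'⟩
      rw [MulAction.index_stabilizer, horb, hk] at h1
      have hXc : ({Q : Sylow p G | Q ≠ P}).ncard = q := by
        rw [Set.ncard_eq_toFinset_card', Set.toFinset_setOf, Finset.filter_ne', Finset.card_erase_of_mem
          (Finset.mem_univ P), Finset.card_univ, ← Nat.card_eq_fintype_card, hn, Nat.add_sub_cancel]
      rw [hXc, mul_comm] at h1
      rw [← Nat.eq_of_mul_eq_mul_left (by omega : 0 < q) h1]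
      refine (Nat.card_congr ?_).symm
      exact
        { toFun := fun g => ⟨(g : N).1, (g : N).2, g.2⟩
          invFun := fun g => ⟨⟨g.1, g.2.1⟩, g.2.2⟩
          left_inv := fun g => rfl
          right_inv := fun g => rfl }
    have hZ : Cfsg.IsZassenhausGroup G (Sylow p G) := by
      refine ⟨hfaith, h2trans, hthree, ?_, ?_⟩
      · have h1 : 1 < Nat.card ↥(stabilizer G P ⊓ stabilizer G Q₀) := by rw [hD]; omega
        haveI := Finite.one_lt_card_iff_nontrivial.mp h1
        obtain ⟨g, hg⟩ := exists_ne (1 : ↥(stabilizer G P ⊓ stabilizer G Q₀))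
        exact ⟨g.1, fun h => hg (Subtype.ext h), P, Q₀, hQ₀.symm, g.2.1, g.2.2⟩
      intro M hM hMt
      by_contra hreg
      push Not at hreg
      have hMc : Nat.card M = q + 1 := by
        haveI := hMt
        rw [← hn]
        refine Nat.card_eq_of_bijective (fun m : M => m • P) ⟨?_, ?_⟩
        · intro m m' h
          have h2 : m'⁻¹ * m ∈ MulAction.stabilizer M P := by
            rw [MulAction.mem_stabilizer_iff, mul_smul, inv_smul_eq_iff]; exact h
          rw [hreg P, Subgroup.mem_bot, inv_mul_eq_one] at h2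
          exact h2.symm
        · exact fun Q => MulAction.exists_smul_eq M P Q
      have hconj : ∀ m m' : M, m ≠ 1 → m' ≠ 1 → orderOf m = orderOf m' := by
        intro m m' hm hm'
        have hne : ∀ m : M, m ≠ 1 → (m : G) • P ≠ P := fun m hm h => hm (by
          have : m ∈ MulAction.stabilizer M P := h
          rwa [hreg P, Subgroup.mem_bot] at this)
        obtain ⟨u, hu, hu'⟩ := htrans _ _ (hne m hm) (hne m' hm')
        let m'' : M := ⟨u * m * u⁻¹, hM.conj_mem _ m.2 u⟩
        have h3 : m'⁻¹ * m'' ∈ MulAction.stabilizer M P := by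
          rw [MulAction.mem_stabilizer_iff, mul_smul, inv_smul_eq_iff]
          show (u * (m : G) * u⁻¹) • P = (m' : G) • P
          rw [mul_smul, mul_smul, inv_smul_eq_iff.mpr ((hmemN P u).mpr (hPN hu)).symm, hu']
        rw [hreg P, Subgroup.mem_bot, inv_mul_eq_one] at h3
        rw [h3, ← Subgroup.orderOf_coe, ← Subgroup.orderOf_coe m'']
        exact ((orderOf_injective (MulAut.conj u).toMonoidHom (MulEquiv.injective _) (m : G))).symm
      haveI : Fact (Nat.Prime 2) := ⟨Nat.prime_two⟩
      obtain ⟨i, hi⟩ := hqodd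
      obtain ⟨t, ht⟩ := exists_prime_orderOf_dvd_card' (G := M) 2 (by rw [hMc]; omega)
      have ht1 : t ≠ 1 := fun h => by rw [h, orderOf_one] at ht; omega
      have hM2 : IsPGroup 2 M := fun m => by
        by_cases hm : m = 1
        · exact ⟨0, by simp [hm]⟩
        · exact ⟨1, by rw [pow_one, ← ht, ← hconj m t hm ht1, pow_orderOf_eq_one]⟩
      obtain ⟨e, he⟩ := IsPGroup.iff_card.mp hM2
      rcases e with _ | _ | e
      · rw [hMc] at he; omega
      · rw [hMc] at he; omega
      · rw [hMc, pow_succ, pow_succ] at he; omega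
    have hkeven : Even k := ⟨k / 2, by
      obtain ⟨i, hi⟩ : 4 ∣ q - 1 := ⟨q / 4, by omega⟩
      omega⟩
    obtain ⟨K, iK, iKF, -, hKc, ⟨φ⟩⟩ := Cfsg.Agent.Lie.ZassenhausHalf.psl_of_half hZ hQ₀.symm
      (by rw [hD]; exact hkeven)
      (by rw [hD, ← Nat.card_eq_fintype_card, hn]; omega)
    have hKq : Fintype.card K = Fintype.card F := by
      rw [← Nat.card_eq_fintype_card, hn] at hKc
      omega
    exact ⟨φ.trans (Cfsg.Agent.Classical.Dickson.pslCongr (FiniteField.ringEquivOfCardEq hKq))⟩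

end Cfsg.Agent.Lie.PSLSquare
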